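/-
Groups with generalized quaternion Sylow 2-subgroups: the local structure around the commutator
subgroup of a Sylow 2-subgroup.
-/
import Mathlib

namespace CfsgLib.QuaternionSylow

open QuaternionGroup
open scoped commutatorElement

theorem quaternion_commutator {k : ℕ} [NeZero k] (g h : QuaternionGroup k) :
    ∃ j : ℕ, ⁅g, h⁆ = (a 1) ^ (2 * j) := by
  have key : ∀ t : ZMod (2 * k), ∃ j : ℕ, a (2 * t) = (a 1 : QuaternionGroup k) ^ (2 * j) := fun t =>
    ⟨t.val, by rw [a_one_pow]; push_cast; rw [ZMod.natCast_zmod_val]⟩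
  have hinva : ∀ i : ZMod (2 * k), (a i : QuaternionGroup k)⁻¹ = a (-i) := fun i => rfl
  have hinvx : ∀ i : ZMod (2 * k), (xa i : QuaternionGroup k)⁻¹ = xa ((k : ZMod (2 * k)) + i) := fun i => rfl
  have h2k : (k : ZMod (2 * k)) + k = 0 := by
    rw [← two_mul]; exact_mod_cast ZMod.natCast_self (2 * k)
  rcases g with i | i <;> rcases h with j | j
  · obtain ⟨l, hl⟩ := key 0
    refine ⟨l, ?_⟩
    rw [← hl, commutatorElement_def, hinva, hinva, a_mul_a, a_mul_a, a_mul_a]
    congr 1; ring
  · obtain ⟨l, hl⟩ := key i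
    refine ⟨l, ?_⟩
    rw [← hl, commutatorElement_def, hinva, hinvx, a_mul_xa, xa_mul_a, xa_mul_xa]
    congr 1; linear_combination h2k
  · obtain ⟨l, hl⟩ := key (-j)
    refine ⟨l, ?_⟩
    rw [← hl, commutatorElement_def, hinvx, hinva, xa_mul_a, xa_mul_xa, a_mul_a]
    congr 1; linear_combination h2k
  · obtain ⟨l, hl⟩ := key (j - i)
    refine ⟨l, ?_⟩
    rw [← hl, commutatorElement_def, hinvx, hinvx, xa_mul_xa, a_mul_xa, xa_mul_xa]
    congr 1; linear_combination h2k

variable {G : Type*} [Group G]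

/-- Generators of a generalized quaternion subgroup. -/
theorem quaternion_data (S : Subgroup G) (k : ℕ) [NeZero k] (e : S ≃* QuaternionGroup k) :
    ∃ a x : G, a ∈ S ∧ x ∈ S ∧ orderOf a = 2 * k ∧ x * a * x⁻¹ = a⁻¹ ∧
      (∀ s ∈ S, ∃ i : ℕ, s = a ^ i ∨ s = x * a ^ i) ∧
      ⁅S, S⁆ = Subgroup.zpowers (a ^ 2) ∧ Nat.card S = 4 * k := by
  let φ : QuaternionGroup k →* G := S.subtype.comp e.symm.toMonoidHom
  have hφ : Function.Injective φ := S.subtype_injective.comp e.symm.injective
  have hrange : ∀ q, φ q ∈ S := fun q => (e.symm q).2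
  have hsurj : ∀ s ∈ S, ∃ q, φ q = s := fun s hs => ⟨e ⟨s, hs⟩, by simp [φ]⟩
  refine ⟨φ (QuaternionGroup.a 1), φ (xa 0), hrange _, hrange _, ?_, ?_, ?_, ?_, ?_⟩
  · rw [orderOf_injective φ hφ, orderOf_a_one]
  · rw [← map_inv, ← map_inv, ← map_mul, ← map_mul]
    congr 1
    rw [mul_inv_eq_iff_eq_mul, show (QuaternionGroup.a 1 : QuaternionGroup k)⁻¹ = QuaternionGroup.a (-1)
      from rfl, xa_mul_a, a_mul_xa]
    congr 1; ring
  · intro s hs
    obtain ⟨q, rfl⟩ := hsurj s hs
    rcases q with i | i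
    · exact ⟨i.val, Or.inl (by rw [← map_pow, a_one_pow, ZMod.natCast_zmod_val])⟩
    · exact ⟨i.val, Or.inr (by
        rw [← map_pow, ← map_mul, a_one_pow, ZMod.natCast_zmod_val, xa_mul_a, zero_add])⟩
  · apply le_antisymm
    · rw [Subgroup.commutator_le]
      intro g hg h hh
      obtain ⟨q, rfl⟩ := hsurj g hg
      obtain ⟨r, rfl⟩ := hsurj h hh
      obtain ⟨j, hj⟩ := quaternion_commutator q r
      refine Subgroup.mem_zpowers_iff.mpr ⟨j, ?_⟩
      rw [zpow_natCast, ← pow_mul, ← map_pow, ← hj, map_commutatorElement]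
    · rw [Subgroup.zpowers_le]
      have h : ⁅φ (xa 0), φ ((QuaternionGroup.a 1)⁻¹)⁆ = φ (QuaternionGroup.a 1) ^ 2 := by
        rw [← map_commutatorElement, ← map_pow, commutatorElement_def,
          show (QuaternionGroup.a 1 : QuaternionGroup k)⁻¹ = QuaternionGroup.a (-1) from rfl,
          show (xa 0 : QuaternionGroup k)⁻¹ = xa (k + 0) from rfl,
          show (QuaternionGroup.a (-1) : QuaternionGroup k)⁻¹ = QuaternionGroup.a (-(-1)) from rfl]
        congr 1
        rw [xa_mul_a, xa_mul_xa, a_mul_a, a_one_pow]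
        congr 1
        push_cast
        have h2k : (k : ZMod (2 * k)) + k = 0 := by
          rw [← two_mul]; exact_mod_cast ZMod.natCast_self (2 * k)
        linear_combination h2k
      rw [← h]
      exact Subgroup.commutator_mem_commutator (hrange _) (hrange _)
  · rw [Nat.card_congr e.toEquiv, Nat.card_eq_fintype_card, QuaternionGroup.card]

theorem eq_zpowers_of_le_cyclic [Finite G] {C A B : Subgroup G} (hC : IsCyclic C) (hA : A ≤ C) (hB : B ≤ C)
    (h : Nat.card A = Nat.card B) : A = B := by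
  classical
  have := Fintype.ofFinite C
  have e : ∀ {U : Subgroup G}, U ≤ C → (U.subgroupOf C : Set C) =
      {z : C | z ^ Nat.card U = 1} := by
    intro U hU
    refine Set.eq_of_subset_of_ncard_le ?_ ?_ (Set.toFinite _)
    · intro z hz
      exact Subtype.ext (congrArg (fun w : U => (w : G)) (pow_card_eq_one' (x := (⟨(z : G), hz⟩ : U))))
    · rw [← Nat.card_coe_set_eq, ← Nat.card_coe_set_eq]
      refine le_of_le_of_eq ?_ (Nat.card_congr (Subgroup.subgroupOfEquivOfLe hU).toEquiv).symm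
      show Nat.card {z : C // z ^ Nat.card U = 1} ≤ _
      rw [Nat.card_eq_fintype_card, Fintype.card_subtype]
      exact hC.card_pow_eq_one_le Nat.card_pos
  have : A.subgroupOf C = B.subgroupOf C := by
    apply SetLike.coe_injective
    rw [e hA, e hB, h]
  rwa [Subgroup.subgroupOf_inj, inf_of_le_left hA, inf_of_le_left hB] at this

variable [Finite G]

/-- The local data attached to a generalized quaternion Sylow 2-subgroup of order at least 16. -/
theorem local_structure (S : Sylow 2 G) (n : ℕ)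
    (e : (S : Subgroup G) ≃* QuaternionGroup (2 ^ (n + 2))) (D : Subgroup G)
    (hD : D = ⁅(S : Subgroup G), (S : Subgroup G)⁆) :
    ∃ (a x : G) (K : Subgroup G),
      a ∈ (S : Subgroup G) ∧ x ∈ (S : Subgroup G) ∧ orderOf a = 2 ^ (n + 3) ∧ x * a * x⁻¹ = a⁻¹ ∧
      D = Subgroup.zpowers (a ^ 2) ∧ Nat.card D = 2 ^ (n + 2) ∧
      (S : Subgroup G) ≤ Subgroup.normalizer (D : Set G) ∧
      (S : Subgroup G) ⊓ Subgroup.centralizer (D : Set G) = Subgroup.zpowers a ∧
      Odd (Nat.card K) ∧ K ≤ Subgroup.centralizer (D : Set G) ∧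
      Subgroup.normalizer (D : Set G) ≤ Subgroup.normalizer (K : Set G) ∧
      (∀ y ∈ Subgroup.centralizer (D : Set G), Odd (orderOf y) → y ∈ K) ∧
      K ⊔ Subgroup.zpowers a = Subgroup.centralizer (D : Set G) ∧
      K ⊔ (S : Subgroup G) = Subgroup.normalizer (D : Set G) ∧
      ∀ g ∈ Subgroup.normalizer (D : Set G), g ∈ Subgroup.centralizer (D : Set G) ∨
        x⁻¹ * g ∈ Subgroup.centralizer (D : Set G) := by
  classical
  have : NeZero (2 ^ (n + 2)) := ⟨pow_ne_zero _ two_ne_zero⟩
  obtain ⟨a, x, ha, hx, hao, hxa, hel, hcom, hScard⟩ := quaternion_data (S : Subgroup G) _ e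
  have hao' : orderOf a = 2 ^ (n + 3) := by rw [hao, ← pow_succ']
  have hScard' : Nat.card (S : Subgroup G) = 2 ^ (n + 4) := by
    rw [hScard, show 4 * 2 ^ (n + 2) = 2 ^ 2 * 2 ^ (n + 2) by norm_num, ← pow_add]; ring_nf
  have hDz : D = Subgroup.zpowers (a ^ 2) := hD.trans hcom
  have hDcard : Nat.card D = 2 ^ (n + 2) := by
    rw [hDz, Nat.card_zpowers, orderOf_pow_of_dvd two_ne_zero (hao' ▸ dvd_pow_self 2 (by omega)), hao',
      pow_succ, Nat.mul_div_cancel _ two_pos]
  set C := Subgroup.centralizer (D : Set G) with hC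
  set N := Subgroup.normalizer (D : Set G) with hN
  have hCmem : ∀ {g : G}, g ∈ C ↔ Commute g (a ^ 2) := by
    intro g
    rw [hC, hDz, Subgroup.zpowers_eq_closure, Subgroup.centralizer_closure,
      Subgroup.mem_centralizer_singleton_iff]
    rfl
  have haC : a ∈ C := hCmem.mpr ((Commute.refl a).pow_right 2)
  have hCN : C ≤ N := by
    intro g hg
    rw [hN, Subgroup.mem_normalizer_iff]
    intro d
    constructor
    · intro hd
      rw [← (Subgroup.mem_centralizer_iff.mp hg d hd), mul_inv_cancel_right]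
      exact hd
    · intro hd
      have h1 := Subgroup.mem_centralizer_iff.mp hg _ hd
      rw [show g * d * g⁻¹ * g = g * d by group] at h1
      exact mul_left_cancel h1 ▸ hd
  have hSN : (S : Subgroup G) ≤ N := by
    intro s hs
    rw [hN, hD]
    have hfwd : ∀ t ∈ (S : Subgroup G), ∀ d ∈ ⁅(S : Subgroup G), (S : Subgroup G)⁆,
        t * d * t⁻¹ ∈ ⁅(S : Subgroup G), (S : Subgroup G)⁆ := by
      intro t ht d hd
      have hle : ⁅(S : Subgroup G), (S : Subgroup G)⁆.map (MulAut.conj t).toMonoidHom ≤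
          ⁅(S : Subgroup G), (S : Subgroup G)⁆ := by
        rw [Subgroup.map_commutator]
        refine Subgroup.commutator_mono ?_ ?_ <;>
        · rintro _ ⟨u, hu, rfl⟩
          exact (S : Subgroup G).mul_mem ((S : Subgroup G).mul_mem ht hu) ((S : Subgroup G).inv_mem ht)
      exact hle ⟨d, hd, rfl⟩
    rw [Subgroup.mem_normalizer_iff]
    refine fun d => ⟨hfwd s hs d, fun hd => ?_⟩
    have := hfwd s⁻¹ ((S : Subgroup G).inv_mem hs) _ hd
    simpa [mul_assoc] using this
  -- `x` does not centralize `D`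
  have hx2 : x * a ^ 2 * x⁻¹ = (a ^ 2)⁻¹ := by
    rw [← inv_pow, ← hxa, conj_pow]
  have hxC : x ∉ C := by
    intro hxC
    have h1 : x * a ^ 2 * x⁻¹ = a ^ 2 := by rw [(hCmem.mp hxC).eq, mul_inv_cancel_right]
    rw [hx2] at h1
    have h2 : a ^ 4 = 1 := by
      have : a ^ 2 * a ^ 2 = 1 := by nth_rw 1 [← h1]; exact inv_mul_cancel _
      rwa [← pow_add] at this
    have h3 := orderOf_dvd_of_pow_eq_one h2
    rw [hao', show (4 : ℕ) = 2 ^ 2 by norm_num, Nat.pow_dvd_pow_iff_le_right (by norm_num)] at h3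
    omega
  have hSC : (S : Subgroup G) ⊓ C = Subgroup.zpowers a := by
    refine le_antisymm ?_ (Subgroup.zpowers_le.mpr ⟨ha, haC⟩)
    rintro s ⟨hs, hsC⟩
    obtain ⟨i, rfl | rfl⟩ := hel s hs
    · exact Subgroup.npow_mem_zpowers a i
    · refine absurd ?_ hxC
      have := C.mul_mem hsC (C.inv_mem (C.pow_mem haC i))
      rwa [mul_inv_cancel_right] at this
  -- `C` is normal in `N`
  have hCconj : ∀ g ∈ N, ∀ y ∈ C, g * y * g⁻¹ ∈ C := by
    intro g hg y hy
    rw [hC, Subgroup.mem_centralizer_iff]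
    intro d hd
    have hd' : g⁻¹ * d * g ∈ D := (Subgroup.mem_normalizer_iff''.mp hg d).mp hd
    have h1 := Subgroup.mem_centralizer_iff.mp hy _ hd'
    calc d * (g * y * g⁻¹) = g * ((g⁻¹ * d * g) * y) * g⁻¹ := by group
      _ = g * (y * (g⁻¹ * d * g)) * g⁻¹ := by rw [h1]
      _ = _ := by group
  -- a cyclic Sylow 2-subgroup of `C`
  let a' : C := ⟨a, haC⟩
  have ha'p : IsPGroup 2 (Subgroup.zpowers a') :=
    IsPGroup.of_card (n := n + 3) (by rw [Nat.card_zpowers, Subgroup.orderOf_mk, hao'])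
  obtain ⟨P, hP⟩ := ha'p.exists_le_sylow
  have hPeq : (P : Subgroup C) = Subgroup.zpowers a' := by
    refine (Subgroup.eq_of_le_of_card_ge hP ?_).symm
    let P' : Subgroup N := ((P : Subgroup C).map C.subtype).subgroupOf N
    obtain ⟨P'', hP''⟩ := ((P.2.map C.subtype).comap_of_injective N.subtype N.subtype_injective).exists_le_sylow
    obtain ⟨g, hg⟩ := MulAction.exists_smul_eq N P'' (S.subtype hSN)
    have hmap : ((P : Subgroup C).map C.subtype).map (MulAut.conj (g : G)).toMonoidHom ≤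
        Subgroup.zpowers a := by
      rw [← hSC]
      rintro _ ⟨y, ⟨c, hc, rfl⟩, rfl⟩
      refine ⟨?_, hCconj g g.2 _ c.2⟩
      have hmem : g * (⟨(c : G), hCN c.2⟩ : N) * g⁻¹ ∈ (S.subtype hSN : Subgroup N) := by
        rw [← hg, Sylow.coe_subgroup_smul]
        exact ⟨_, hP'' (show ((⟨(c : G), hCN c.2⟩ : N) : G) ∈ (P : Subgroup C).map C.subtype from
          ⟨c, hc, rfl⟩), rfl⟩
      exact hmem
    have h := Subgroup.card_le_of_le hmap
    rw [Subgroup.card_map_of_injective (MulAut.conj (g : G)).injective,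
      Subgroup.card_map_of_injective C.subtype_injective, Nat.card_zpowers] at h
    rwa [Nat.card_zpowers, Subgroup.orderOf_mk]
  have hPcyc : IsCyclic P := by
    show IsCyclic (P : Subgroup C)
    rw [hPeq]; infer_instance
  have hmin : (Nat.card C).minFac = 2 := by
    rw [Nat.minFac_eq_two_iff]
    refine dvd_trans ?_ (orderOf_dvd_natCard a')
    rw [Subgroup.orderOf_mk, hao']
    exact dvd_pow_self 2 (by omega)
  have hcompl := IsCyclic.isComplement' hmin hPcyc
  set K' := (MonoidHom.transferSylow P (IsCyclic.normalizer_le_centralizer hmin hPcyc)).ker with hK'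
  have hK'n : ¬ 2 ∣ Nat.card K' := MonoidHom.not_dvd_card_ker_transferSylow P _
  let K := K'.map C.subtype
  have hKcard : Odd (Nat.card K) := by
    rw [Subgroup.card_map_of_injective C.subtype_injective, Nat.odd_iff]
    omega
  have hKC : K ≤ C := Subgroup.map_subtype_le _
  have hKodd : ∀ y ∈ C, Odd (orderOf y) → y ∈ K := by
    intro y hy hyo
    refine ⟨⟨y, hy⟩, ?_, rfl⟩
    show _ ∈ K'
    rw [hK', MonoidHom.mem_ker, ← orderOf_eq_one_iff]
    obtain ⟨j, hj⟩ := (IsPGroup.iff_orderOf).mp P.2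
      (MonoidHom.transferSylow P (IsCyclic.normalizer_le_centralizer hmin hPcyc) ⟨y, hy⟩)
    have hd := orderOf_map_dvd (MonoidHom.transferSylow P (IsCyclic.normalizer_le_centralizer hmin hPcyc))
      (⟨y, hy⟩ : C)
    rw [hj, Subgroup.orderOf_mk] at hd
    rw [hj]
    exact (Nat.eq_one_of_dvd_coprimes ((Nat.coprime_two_left.mpr hyo).pow_left j) dvd_rfl hd)
  have hKN : N ≤ Subgroup.normalizer (K : Set G) := by
    have key : ∀ g ∈ N, ∀ y ∈ K, g * y * g⁻¹ ∈ K := by
      intro g hg y hy
      refine hKodd _ (hCconj g hg y (hKC hy)) ?_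
      rw [show g * y * g⁻¹ = (MulAut.conj g).toMonoidHom y from rfl,
        orderOf_injective _ (MulAut.conj g).injective]
      exact hKcard.of_dvd_nat (Subgroup.orderOf_mk y hy ▸ orderOf_dvd_natCard (⟨y, hy⟩ : K))
    intro g hg
    rw [Subgroup.mem_normalizer_iff]
    refine fun y => ⟨key g hg y, fun hy => ?_⟩
    have := key g⁻¹ (N.inv_mem hg) _ hy
    simpa [mul_assoc] using this
  have hKa : K ⊔ Subgroup.zpowers a = C := by
    have h := hcompl.sup_eq_top
    rw [hPeq] at h
    have := congrArg (Subgroup.map C.subtype) h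
    rwa [Subgroup.map_sup, MonoidHom.map_zpowers, ← MonoidHom.range_eq_map, Subgroup.range_subtype] at this
  have hcases : ∀ g ∈ N, g ∈ C ∨ x⁻¹ * g ∈ C := by
    intro g hg
    have hd : g * a ^ 2 * g⁻¹ ∈ D := by
      refine (Subgroup.mem_normalizer_iff.mp hg _).mp ?_
      rw [hDz]; exact Subgroup.mem_zpowers _
    -- conjugation by `g` on `D` is an automorphism of 2-power order
    let P₂ := S.subtype hSN
    have hn : ((Subgroup.centralizer (D : Set G)).subgroupOf N).Normal :=
      ⟨fun y hy g => hCconj g g.2 y hy⟩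
    -- `N` is generated by `C` and `S`
    have hq : IsPGroup 2 (N ⧸ (Subgroup.centralizer (D : Set G)).subgroupOf N) := by
      refine fun q => ?_
      obtain ⟨h, rfl⟩ := QuotientGroup.mk_surjective q
      obtain ⟨i, hi⟩ : ∃ i : ℕ, (h : G) * a ^ 2 * (h : G)⁻¹ = (a ^ 2) ^ i := by
        have hd : (h : G) * a ^ 2 * (h : G)⁻¹ ∈ D := by
          refine (Subgroup.mem_normalizer_iff.mp h.2 _).mp ?_
          rw [hDz]; exact Subgroup.mem_zpowers _
        rw [hDz, mem_zpowers_iff_mem_range_orderOf] at hd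
        obtain ⟨i, -, hi⟩ := Finset.mem_image.mp hd
        exact ⟨i, hi.symm⟩
      have hiter : ∀ m : ℕ, (h : G) ^ m * a ^ 2 * ((h : G) ^ m)⁻¹ = (a ^ 2) ^ (i ^ m) := by
        intro m
        induction m with
        | zero => simp
        | succ m ih =>
          rw [pow_succ', show (h : G) * (h : G) ^ m * a ^ 2 * ((h : G) * (h : G) ^ m)⁻¹ =
            (h : G) * ((h : G) ^ m * a ^ 2 * ((h : G) ^ m)⁻¹) * (h : G)⁻¹ by group, ih, ← conj_pow, hi,
            ← pow_mul, ← pow_succ']
      have hiodd : Odd i := by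
        rcases Nat.even_or_odd i with he | ho
        · exfalso
          obtain ⟨t, rfl⟩ := he
          have h1 : orderOf ((h : G) * a ^ 2 * (h : G)⁻¹) = 2 ^ (n + 2) := by
            rw [show (h : G) * a ^ 2 * (h : G)⁻¹ = (MulAut.conj (h : G)).toMonoidHom (a ^ 2) from rfl,
              orderOf_injective _ (MulAut.conj (h : G)).injective, ← Nat.card_zpowers, ← hDz, hDcard]
          rw [hi] at h1
          have h2 : ((a ^ 2) ^ (t + t)) ^ 2 ^ (n + 1) = 1 := by
            rw [← pow_mul, ← pow_mul, show 2 * ((t + t) * 2 ^ (n + 1)) = 2 ^ (n + 3) * t by ring, pow_mul,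
              ← hao', pow_orderOf_eq_one, one_pow]
          have h3 := orderOf_dvd_of_pow_eq_one h2
          rw [h1, Nat.pow_dvd_pow_iff_le_right (by norm_num)] at h3
          omega
        · exact ho
      refine ⟨n + 2, ?_⟩
      rw [← QuotientGroup.mk_pow, QuotientGroup.eq_one_iff, Subgroup.mem_subgroupOf]
      refine hCmem.mpr ?_
      have h1 := hiter (2 ^ (n + 2))
      have h2 : (i ^ 2 ^ (n + 2)) ≡ 1 [MOD 2 ^ (n + 2)] := by
        have hco : Nat.Coprime i (2 ^ (n + 2)) := (Nat.coprime_two_right.mpr hiodd).pow_right _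
        have := Nat.ModEq.pow_totient hco
        rw [Nat.totient_prime_pow Nat.prime_two (by omega)] at this
        have h3 := this.pow 2
        rwa [← pow_mul, one_pow, show 2 ^ (n + 2 - 1) * (2 - 1) * 2 = 2 ^ (n + 2) by
          rw [show n + 2 - 1 = n + 1 by omega, show 2 - 1 = 1 from rfl, mul_one, ← pow_succ]] at h3
      have h4 : (a ^ 2) ^ (i ^ 2 ^ (n + 2)) = a ^ 2 := by
        conv_rhs => rw [← pow_one (a ^ 2)]
        rw [pow_eq_pow_iff_modEq, ← Nat.card_zpowers, ← hDz, hDcard]
        exact h2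
      rw [h4, mul_inv_eq_iff_eq_mul] at h1
      exact h1
    have := Fact.mk Nat.prime_two
    have htop : ((Subgroup.centralizer (D : Set G)).subgroupOf N) ⊔ (P₂ : Subgroup N) = ⊤ := by
      refine Subgroup.index_eq_one.mp (Nat.eq_one_of_dvd_coprimes
        (a := ((Subgroup.centralizer (D : Set G)).subgroupOf N).index) (b := (P₂ : Subgroup N).index) ?_
        (Subgroup.index_dvd_of_le le_sup_left) (Subgroup.index_dvd_of_le le_sup_right))
      obtain ⟨j, hj⟩ := hq.exists_card_eq
      rw [Subgroup.index_eq_card, hj]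
      exact (Nat.prime_two.coprime_iff_not_dvd.mpr P₂.not_dvd_index).pow_left j
    obtain ⟨c, hc, s, hs, hcs⟩ :=
      Subgroup.mem_sup_of_normal_left.mp (htop ▸ Subgroup.mem_top (⟨g, hg⟩ : N))
    have hgeq : g = (c : G) * (s : G) := congrArg Subtype.val hcs.symm
    obtain ⟨i, hi | hi⟩ := hel (s : G) hs
    · left; rw [hgeq, hi]; exact C.mul_mem hc (C.pow_mem haC i)
    · right
      rw [hgeq, hi, show x⁻¹ * ((c : G) * (x * a ^ i)) = (x⁻¹ * (c : G) * x⁻¹⁻¹) * a ^ i by group]
      exact C.mul_mem (hCconj x⁻¹ (N.inv_mem (hSN hx)) _ hc) (C.pow_mem haC i)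
  refine ⟨a, x, K, ha, hx, hao', hxa, hDz, hDcard, hSN, hSC, hKcard, hKC, hKN, hKodd, hKa, ?_, hcases⟩
  refine le_antisymm (sup_le (hKC.trans hCN) hSN) fun g hg => ?_
  have hCle : C ≤ K ⊔ (S : Subgroup G) := by
    rw [← hKa]
    exact sup_le_sup_left (Subgroup.zpowers_le.mpr ha) K
  rcases hcases g hg with h | h
  · exact hCle h
  · have := (K ⊔ (S : Subgroup G)).mul_mem ((le_sup_right : (S : Subgroup G) ≤ _) hx) (hCle h)
    rwa [mul_inv_cancel_left] at this

/-- S0843: the elements of order divisible by `|D|` form a trivial intersection set. -/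
theorem special_elements (S : Sylow 2 G) (n : ℕ)
    (e : (S : Subgroup G) ≃* QuaternionGroup (2 ^ (n + 2))) (D : Subgroup G)
    (hD : D = ⁅(S : Subgroup G), (S : Subgroup G)⁆) :
    (∀ y : G, y ∈ Subgroup.centralizer (D : Set G) → Nat.card D ∣ orderOf y → D ≤ Subgroup.zpowers y) ∧
    (∀ g y : G, y ∈ Subgroup.centralizer (D : Set G) → Nat.card D ∣ orderOf y →
      g * y * g⁻¹ ∈ Subgroup.centralizer (D : Set G) → g ∈ Subgroup.normalizer (D : Set G)) ∧
    (∀ g y : G, g ∈ Subgroup.normalizer (D : Set G) → y ∈ Subgroup.centralizer (D : Set G) →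
      Nat.card D ∣ orderOf y → g * y * g⁻¹ ∈ Subgroup.centralizer (D : Set G) ∧
        Nat.card D ∣ orderOf (g * y * g⁻¹)) := by
  classical
  obtain ⟨a, x, K, ha, hx, hao, hxa, hDz, hDcard, hSN, hSC, hKcard, hKC, hKN, hKodd, hKa, -, -⟩ :=
    local_structure S n e D hD
  set C := Subgroup.centralizer (D : Set G) with hC
  have ho : ∀ g y : G, orderOf (g * y * g⁻¹) = orderOf y := fun g y => by
    rw [show g * y * g⁻¹ = (MulAut.conj g).toMonoidHom y from rfl,
      orderOf_injective _ (MulAut.conj g).injective]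
  have h1 : ∀ y : G, y ∈ C → Nat.card D ∣ orderOf y → D ≤ Subgroup.zpowers y := by
    intro y hy hdvd
    obtain ⟨j, m, hm, hyo⟩ := Nat.exists_eq_pow_mul_and_not_dvd (orderOf_pos y).ne' 2 (by norm_num)
    set z := y ^ m with hz
    have hzo : orderOf z = 2 ^ j := by
      rw [hz, orderOf_pow_of_dvd (show m ≠ 0 from fun h => hm (h ▸ dvd_zero 2)) (hyo ▸ dvd_mul_left _ _), hyo,
        Nat.mul_div_cancel _ (Nat.pos_of_ne_zero fun h => by simp [h] at hm)]
    have hzC : z ∈ C := C.pow_mem hy m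
    have hj : n + 2 ≤ j := by
      rw [hDcard, hyo] at hdvd
      have hco : Nat.Coprime (2 ^ (n + 2)) m := (Nat.prime_two.coprime_iff_not_dvd.mpr hm).pow_left _
      exact (Nat.pow_dvd_pow_iff_le_right (by norm_num)).mp (hco.dvd_of_dvd_mul_right hdvd)
    -- a cyclic 2-subgroup of `C` containing both
    let U := Subgroup.zpowers z ⊔ D
    have hUC : U ≤ C := sup_le (Subgroup.zpowers_le.mpr hzC) (by
      rw [hDz, Subgroup.zpowers_le]
      have : a ∈ C := by rw [← hKa]; exact (le_sup_right : _ ≤ K ⊔ _) (Subgroup.mem_zpowers a)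
      exact C.pow_mem this 2)
    have hDp : IsPGroup 2 D := IsPGroup.of_card hDcard
    have hzp : IsPGroup 2 (Subgroup.zpowers z) := IsPGroup.of_card (by rw [Nat.card_zpowers, hzo])
    have hzD : Subgroup.zpowers z ≤ Subgroup.normalizer (D : Set G) := by
      rw [Subgroup.zpowers_le, Subgroup.mem_normalizer_iff]
      intro d
      constructor
      · intro hd
        rw [← Subgroup.mem_centralizer_iff.mp hzC d hd, mul_inv_cancel_right]
        exact hd
      · intro hd
        have h := Subgroup.mem_centralizer_iff.mp hzC _ hd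
        rw [show z * d * z⁻¹ * z = z * d by group] at h
        exact mul_left_cancel h ▸ hd
    have hUp : IsPGroup 2 U := hzp.to_sup_of_normal_right' hDp hzD
    let a' : C := ⟨a, by rw [← hKa]; exact (le_sup_right : _ ≤ K ⊔ _) (Subgroup.mem_zpowers a)⟩
    -- all 2-subgroups of `C` are cyclic
    have hUcyc : IsCyclic U := by
      have hU' : Disjoint U K := by
        refine Subgroup.disjoint_of_coprime_natCard ?_
        obtain ⟨i, hi⟩ := hUp.exists_card_eq
        rw [hi]
        exact (Nat.coprime_two_left.mpr hKcard).pow_left i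
      -- `U` embeds into the image of `zpowers a`
      let KC := K.subgroupOf C
      have hKn : KC.Normal := ⟨fun k hk c =>
        (Subgroup.mem_normalizer_iff.mp (hKN (show (c : G) ∈ Subgroup.normalizer (D : Set G) from by
          rw [Subgroup.mem_normalizer_iff]
          intro d
          constructor
          · intro hd
            rw [← Subgroup.mem_centralizer_iff.mp c.2 d hd, mul_inv_cancel_right]
            exact hd
          · intro hd
            have h := Subgroup.mem_centralizer_iff.mp c.2 _ hd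
            rw [show (c : G) * d * (c : G)⁻¹ * (c : G) = (c : G) * d by group] at h
            exact mul_left_cancel h ▸ hd)) (k : G)).mp hk⟩
      have hsurj : ∀ q : C ⧸ KC, q ∈ Subgroup.zpowers (QuotientGroup.mk' KC a') := by
        intro q
        obtain ⟨c, rfl⟩ := QuotientGroup.mk'_surjective KC q
        have htop : KC ⊔ Subgroup.zpowers a' = ⊤ := by
          apply Subgroup.map_injective C.subtype_injective
          rw [Subgroup.map_sup, MonoidHom.map_zpowers, Subgroup.map_subgroupOf_eq_of_le hKC,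
            ← MonoidHom.range_eq_map, Subgroup.range_subtype]
          exact hKa
        obtain ⟨k, hk, w, hw, rfl⟩ := Subgroup.mem_sup_of_normal_left.mp (htop ▸ Subgroup.mem_top c)
        obtain ⟨i, rfl⟩ := Subgroup.mem_zpowers_iff.mp hw
        rw [map_mul, show QuotientGroup.mk' KC k = 1 from (QuotientGroup.eq_one_iff k).mpr hk, one_mul,
          map_zpow]
        exact Subgroup.zpow_mem_zpowers _ _
      have : IsCyclic (C ⧸ KC) := ⟨_, hsurj⟩
      refine isCyclic_of_injective ((QuotientGroup.mk' KC).comp (Subgroup.inclusion hUC)) ?_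
      rw [← MonoidHom.ker_eq_bot_iff, Subgroup.eq_bot_iff_forall]
      intro u hu
      rw [MonoidHom.mem_ker, MonoidHom.comp_apply, QuotientGroup.mk'_apply, QuotientGroup.eq_one_iff] at hu
      exact Subtype.ext (Subgroup.disjoint_def.mp hU' u.2 hu)
    -- the subgroup of `zpowers z` of order `|D|`
    let w := z ^ 2 ^ (j - (n + 2))
    have hwo : Nat.card (Subgroup.zpowers w) = Nat.card D := by
      rw [Nat.card_zpowers, hDcard, orderOf_pow_of_dvd (pow_ne_zero _ two_ne_zero)
        (hzo ▸ pow_dvd_pow 2 (by omega)), hzo, Nat.pow_div (by omega) two_pos]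
      congr 1; omega
    have hwz : Subgroup.zpowers w ≤ Subgroup.zpowers z :=
      Subgroup.zpowers_le.mpr (Subgroup.npow_mem_zpowers z _)
    rw [← eq_zpowers_of_le_cyclic hUcyc (hwz.trans le_sup_left) le_sup_right hwo]
    exact hwz.trans (Subgroup.zpowers_le.mpr (Subgroup.npow_mem_zpowers y m))
  refine ⟨h1, fun g y hy hdvd hgy => ?_, fun g y hg hy hdvd => ⟨?_, by rwa [ho]⟩⟩
  · have hA := h1 y hy hdvd
    have hB := h1 _ hgy (by rwa [ho])
    have hmap : D.map (MulAut.conj g).toMonoidHom ≤ Subgroup.zpowers (g * y * g⁻¹) := by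
      refine (Subgroup.map_mono hA).trans ?_
      rw [MonoidHom.map_zpowers]; rfl
    have heq := eq_zpowers_of_le_cyclic (Subgroup.isCyclic_zpowers _) hmap hB
      (Subgroup.card_map_of_injective (MulAut.conj g).injective)
    rw [Subgroup.mem_normalizer_iff]
    intro d
    constructor
    · intro hd
      rw [← heq]; exact ⟨d, hd, rfl⟩
    · intro hd
      rw [← heq] at hd
      obtain ⟨d', hd', hde⟩ := hd
      exact (MulAut.conj g).injective hde ▸ hd'
  · rw [hC, Subgroup.mem_centralizer_iff]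
    intro d hd
    have hd' : g⁻¹ * d * g ∈ D := (Subgroup.mem_normalizer_iff''.mp hg d).mp hd
    have h := Subgroup.mem_centralizer_iff.mp hy _ hd'
    calc d * (g * y * g⁻¹) = g * ((g⁻¹ * d * g) * y) * g⁻¹ := by group
      _ = g * (y * (g⁻¹ * d * g)) * g⁻¹ := by rw [h]
      _ = _ := by group

end CfsgLib.QuaternionSylow
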