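/-
Exceptional characters for a generalized quaternion Sylow 2-subgroup.
-/
import Cfsg.Agent.Lib.BrauerSuzukiQ.Fusion
import Cfsg.Agent.Lib.CharTheory

namespace CfsgLib.QuaternionSylow

open Cfsg CfsgLib.CharTheory
open scoped ComplexConjugate

universe u

variable {G : Type u} [Group G]

/-- A generalized character of norm 3 containing the principal character once and vanishing at `1`. -/
theorem exists_decomp_norm_three [Fintype G] {Φ : G → ℂ} (h : IsGeneralizedCharacter G Φ)
    (h3 : classInner Φ Φ = 3) (hone : classInner Φ (fun _ => 1) = 1) (h1 : Φ 1 = 0) :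
    ∃ χ₁ χ₂ : G → ℂ, IsIrrCharacter G χ₁ ∧ IsIrrCharacter G χ₂ ∧ χ₁ ≠ (fun _ => 1) ∧
      χ₂ ≠ (fun _ => 1) ∧ χ₁ 1 = χ₂ 1 + 1 ∧ ∀ g, Φ g = 1 + χ₂ g - χ₁ g := by
  classical
  obtain ⟨hcf, hcoef⟩ := isGenChar_iff_coeff_int.mp h
  choose c hc using fun φ : IrrCharacter G => hcoef φ φ.2
  have heq := eq_sum_irr hcf
  simp only [hc] at heq
  have hsq : ∑ φ : IrrCharacter G, c φ * c φ = 3 := by
    have e : (3 : ℂ) = ∑ φ : IrrCharacter G, ((c φ : ℂ) * (c φ : ℂ)) := by
      rw [← h3]
      conv_lhs => rw [classInner_eq_sum_irr hcf]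
      exact Finset.sum_congr rfl fun φ _ => by rw [hc, ← classInner_comm, hc, map_intCast]
    exact_mod_cast e.symm
  set o : IrrCharacter G := ⟨fun _ => 1, isIrrCharacter_one⟩ with ho
  have hco : c o = 1 := by
    have := hc o
    rw [show ((o : IrrCharacter G) : G → ℂ) = fun _ => 1 from rfl, hone] at this
    exact_mod_cast this.symm
  set s := (Finset.univ.erase o).filter fun φ => c φ ≠ 0 with hs
  have hsum : ∑ φ ∈ s, c φ * c φ = 2 := by
    rw [hs, Finset.sum_filter_of_ne (p := fun φ => c φ ≠ 0) (fun φ _ hne hz => hne (by rw [hz, mul_zero]))]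
    have := Finset.add_sum_erase Finset.univ (fun φ => c φ * c φ) (Finset.mem_univ o)
    rw [hsq, hco] at this
    omega
  have hsmall : ∀ φ ∈ s, c φ = 1 ∨ c φ = -1 := by
    intro φ hφ
    have h2 : c φ * c φ ≤ 2 := hsum ▸ Finset.single_le_sum (fun i _ => mul_self_nonneg (c i)) hφ
    have hne := (Finset.mem_filter.mp hφ).2
    have : -2 < c φ ∧ c φ < 2 := ⟨by nlinarith, by nlinarith⟩
    omega
  have hcard : s.card = 2 := by
    rw [Finset.sum_congr rfl fun φ hφ => show c φ * c φ = 1 by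
      rcases hsmall φ hφ with e | e <;> rw [e] <;> norm_num, Finset.sum_const, nsmul_one] at hsum
    exact_mod_cast hsum
  obtain ⟨u, v, huv, hsuv⟩ := Finset.card_eq_two.mp hcard
  have hu : u ∈ s := by rw [hsuv]; simp
  have hv : v ∈ s := by rw [hsuv]; simp
  have hou : u ≠ o := (Finset.mem_erase.mp (Finset.mem_filter.mp hu).1).1
  have hov : v ≠ o := (Finset.mem_erase.mp (Finset.mem_filter.mp hv).1).1
  have hΦ : ∀ g, Φ g = 1 + (c u : ℂ) * (u : G → ℂ) g + (c v : ℂ) * (v : G → ℂ) g := by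
    intro g
    conv_lhs => rw [heq]
    rw [Finset.sum_apply, ← Finset.add_sum_erase _ _ (Finset.mem_univ o),
      ← Finset.sum_filter_of_ne (p := fun φ => c φ ≠ 0) (fun φ _ hne hz => hne (by simp [hz])), ← hs,
      hsuv, Finset.sum_pair huv]
    simp only [Pi.smul_apply, smul_eq_mul, hco, Int.cast_one, one_mul]
    rw [show ((o : IrrCharacter G) : G → ℂ) g = 1 from rfl]
    ring
  obtain ⟨du, hdu, hdu'⟩ := irr_degree_pos u.2
  obtain ⟨dv, hdv, hdv'⟩ := irr_degree_pos v.2
  have hdeg : (0 : ℤ) = 1 + c u * du + c v * dv := by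
    have := hΦ 1
    rw [h1, hdu', hdv'] at this
    exact_mod_cast this
  have hu1 : (u : G → ℂ) ≠ fun _ => 1 := fun e => hou (Subtype.ext e)
  have hv1 : (v : G → ℂ) ≠ fun _ => 1 := fun e => hov (Subtype.ext e)
  rcases hsmall u hu with eu | eu <;> rcases hsmall v hv with ev | ev
  · rw [eu, ev] at hdeg; omega
  · rw [eu, ev] at hdeg
    refine ⟨v, u, v.2, u.2, hv1, hu1, ?_, fun g => by rw [hΦ g, eu, ev]; push_cast; ring⟩
    rw [hdu', hdv']
    exact_mod_cast (show (dv : ℤ) = du + 1 by omega)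
  · rw [eu, ev] at hdeg
    refine ⟨u, v, u.2, v.2, hu1, hv1, ?_, fun g => by rw [hΦ g, eu, ev]; push_cast; ring⟩
    rw [hdu', hdv']
    exact_mod_cast (show (du : ℤ) = dv + 1 by omega)
  · rw [eu, ev] at hdeg; omega

/-- Brauer–Suzuki: the exceptional characters. -/
theorem exists_exceptional [Fintype G] (S : Sylow 2 G) (n : ℕ)
    (e : (S : Subgroup G) ≃* QuaternionGroup (2 ^ (n + 2))) :
    ∃ χ₁ χ₂ : G → ℂ, IsIrrCharacter G χ₁ ∧ IsIrrCharacter G χ₂ ∧ χ₁ ≠ (fun _ => 1) ∧
      χ₂ ≠ (fun _ => 1) ∧ χ₁ 1 = χ₂ 1 + 1 ∧ ∀ g : G, ¬ 4 ∣ orderOf g → χ₁ g - χ₂ g = 1 := by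
  classical
  set D : Subgroup G := ⁅(S : Subgroup G), (S : Subgroup G)⁆ with hD
  obtain ⟨a, x, K, ha, hx, hao, hxa, hDz, hDcard, hSN, hSC, hKcard, hKC, hKN, hKodd, hKa, -, hcases⟩ :=
    local_structure S n e D hD
  obtain ⟨-, hTI, -⟩ := special_elements S n e D hD
  set C := Subgroup.centralizer (D : Set G) with hC
  have haC : a ∈ C := by rw [← hKa]; exact (le_sup_right : _ ≤ K ⊔ _) (Subgroup.mem_zpowers a)
  have hxN : x ∈ Subgroup.normalizer (D : Set G) := hSN hx
  have hxC : x ∉ C := by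
    intro h
    have : x ∈ Subgroup.zpowers a := hSC ▸ ⟨hx, h⟩
    obtain ⟨i, hi⟩ := Subgroup.mem_zpowers_iff.mp this
    have hc : x * a * x⁻¹ = a := by
      rw [← hi, ((Commute.refl a).zpow_left i).eq, mul_inv_cancel_right]
    rw [hxa] at hc
    have h2 : a ^ 2 = 1 := by rw [pow_two]; nth_rw 1 [← hc]; exact inv_mul_cancel _
    have h3 := orderOf_dvd_of_pow_eq_one h2
    rw [hao] at h3
    have h4 := Nat.le_of_dvd two_pos h3
    have h5 : 2 ^ 2 ≤ 2 ^ (n + 3) := Nat.pow_le_pow_right two_pos (by omega)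
    omega
  -- the complement and the linear character
  let a' : C := ⟨a, haC⟩
  have hCN : C ≤ Subgroup.normalizer (D : Set G) := fun g hg => by
    rw [Subgroup.mem_normalizer_iff]
    intro d
    constructor
    · intro hd
      rw [← Subgroup.mem_centralizer_iff.mp hg d hd, mul_inv_cancel_right]
      exact hd
    · intro hd
      have h1 := Subgroup.mem_centralizer_iff.mp hg _ hd
      rw [show g * d * g⁻¹ * g = g * d by group] at h1
      exact mul_left_cancel h1 ▸ hd
  let KC := K.subgroupOf C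
  have hKn : KC.Normal :=
    ⟨fun k hk c => (Subgroup.mem_normalizer_iff.mp (hKN (hCN c.2)) (k : G)).mp hk⟩
  have htop : KC ⊔ Subgroup.zpowers a' = ⊤ := by
    apply Subgroup.map_injective C.subtype_injective
    rw [Subgroup.map_sup, MonoidHom.map_zpowers, Subgroup.map_subgroupOf_eq_of_le hKC,
      ← MonoidHom.range_eq_map, Subgroup.range_subtype]
    exact hKa
  have ha'o : orderOf a' = 2 ^ (n + 3) := by rw [Subgroup.orderOf_mk, hao]
  have hcompl : Subgroup.IsComplement' (Subgroup.zpowers a') KC := by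
    refine Subgroup.isComplement'_of_disjoint_and_mul_eq_univ ?_ ?_
    · refine Subgroup.disjoint_of_coprime_natCard ?_
      rw [Nat.card_zpowers, ha'o, Nat.card_congr (Subgroup.subgroupOfEquivOfLe hKC).toEquiv]
      exact (Nat.coprime_two_left.mpr hKcard).pow_left _
    · rw [← Subgroup.mul_normal, sup_comm, htop, Subgroup.coe_top]
  let eqv := hcompl.QuotientMulEquiv
  have heqv : ∀ h : Subgroup.zpowers a', eqv ((h : C) : C ⧸ KC) = h := fun h => by
    rw [show (((h : C) : C ⧸ KC)) = eqv.symm h from rfl, MulEquiv.apply_symm_apply]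
  have hgen : ∀ h : Subgroup.zpowers a', h ∈ Subgroup.zpowers (⟨a', Subgroup.mem_zpowers a'⟩ : Subgroup.zpowers a') :=
    fun h => by
      obtain ⟨i, hi⟩ := Subgroup.mem_zpowers_iff.mp h.2
      exact Subgroup.mem_zpowers_iff.mpr ⟨i, Subtype.ext (by simpa using hi)⟩
  let I : ℂˣ := Units.mk0 Complex.I Complex.I_ne_zero
  have hI4 : I ^ 4 = 1 := Units.ext (by simp [I])
  let ν : Subgroup.zpowers a' →* ℂˣ := monoidHomOfForallMemZpowers hgen (g' := I) (by
    rw [Subgroup.orderOf_mk, ha'o]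
    refine (orderOf_dvd_of_pow_eq_one hI4).trans ?_
    rw [show (4 : ℕ) = 2 ^ 2 by norm_num]
    exact pow_dvd_pow 2 (by omega))
  let μ : C →* ℂˣ := ν.comp (eqv.toMonoidHom.comp (QuotientGroup.mk' KC))
  have hμa : μ a' = I := by
    show ν (eqv ((a' : C) : C ⧸ KC)) = I
    rw [show ((a' : C) : C ⧸ KC) = (((⟨a', Subgroup.mem_zpowers a'⟩ : Subgroup.zpowers a') : C) : C ⧸ KC)
      from rfl, heqv]
    exact monoidHomOfForallMemZpowers_apply_gen hgen _
  have hμK : ∀ k ∈ KC, μ k = 1 := fun k hk => by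
    show ν (eqv ((k : C) : C ⧸ KC)) = 1
    rw [(QuotientGroup.eq_one_iff k).mpr hk, map_one, map_one]
  have hμvan : ∀ y : C, ¬ 2 ^ (n + 2) ∣ orderOf (y : G) → μ y = 1 := by
    intro y hy
    obtain ⟨k, hk, w, hw, rfl⟩ := Subgroup.mem_sup_of_normal_left.mp (htop ▸ Subgroup.mem_top y)
    rw [map_mul, hμK k hk, one_mul]
    obtain ⟨i, rfl⟩ := Subgroup.mem_zpowers_iff.mp hw
    have hd : orderOf (a' ^ i) ∣ orderOf ((k * a' ^ i : C) : G) := by
      have h1 := orderOf_map_dvd (eqv.toMonoidHom.comp (QuotientGroup.mk' KC)) (k * a' ^ i)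
      rw [show eqv.toMonoidHom.comp (QuotientGroup.mk' KC) (k * a' ^ i) =
          ⟨a' ^ i, Subgroup.zpow_mem_zpowers a' i⟩ by
        show eqv (((k * a' ^ i : C)) : C ⧸ KC) = _
        rw [QuotientGroup.mk_mul, (QuotientGroup.eq_one_iff k).mpr hk, one_mul]
        exact heqv ⟨a' ^ i, Subgroup.zpow_mem_zpowers a' i⟩, Subgroup.orderOf_mk] at h1
      rwa [Subgroup.orderOf_coe]
    have hd2 : orderOf (a' ^ i) ∣ 2 ^ (n + 3) := by
      rw [← ha'o]
      exact orderOf_dvd_of_mem_zpowers (Subgroup.zpow_mem_zpowers a' i)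
    obtain ⟨j, hj, hje⟩ := (Nat.dvd_prime_pow Nat.prime_two).mp hd2
    have hjn : j ≤ n + 1 := by
      by_contra hlt
      exact hy (((hje ▸ pow_dvd_pow 2 (by omega)) : 2 ^ (n + 2) ∣ orderOf (a' ^ i)).trans hd)
    have hpow : (a' ^ i) ^ 2 ^ (n + 1) = 1 :=
      orderOf_dvd_iff_pow_eq_one.mp (hje ▸ pow_dvd_pow 2 hjn)
    rw [← zpow_natCast, ← zpow_mul, ← orderOf_dvd_iff_zpow_eq_one, ha'o] at hpow
    obtain ⟨t, ht⟩ : (4 : ℤ) ∣ i := by
      have h2 : (2 : ℤ) ^ (n + 1) ≠ 0 := pow_ne_zero _ two_ne_zero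
      refine (mul_dvd_mul_iff_right h2).mp ?_
      have e : (4 : ℤ) * 2 ^ (n + 1) = ((2 ^ (n + 3) : ℕ) : ℤ) := by push_cast; ring
      rw [e]
      exact_mod_cast hpow
    rw [map_zpow, hμa, ht, zpow_mul, show ((4 : ℤ)) = ((4 : ℕ) : ℤ) from rfl, zpow_natCast, hI4, one_zpow]
  -- conjugation by `x` inverts `μ`
  have hxconj : ∀ y : C, x * (y : G) * x⁻¹ ∈ C := fun y => by
    refine Subgroup.mem_centralizer_iff.mpr ?_
    intro d hd
    have hd' : x⁻¹ * d * x ∈ D := (Subgroup.mem_normalizer_iff''.mp hxN d).mp hd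
    have h := Subgroup.mem_centralizer_iff.mp y.2 _ hd'
    calc d * (x * (y : G) * x⁻¹) = x * ((x⁻¹ * d * x) * y) * x⁻¹ := by group
      _ = x * ((y : G) * (x⁻¹ * d * x)) * x⁻¹ := by rw [h]
      _ = _ := by group
  have hμx : ∀ y : C, μ ⟨x * y * x⁻¹, hxconj y⟩ = (μ y)⁻¹ := by
    let c : C →* C :=
      { toFun := fun y => ⟨x * y * x⁻¹, hxconj y⟩
        map_one' := Subtype.ext (by simp)
        map_mul' := fun u v => Subtype.ext (by simp [mul_assoc]) }
    intro y
    show μ (c y) = _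
    obtain ⟨k, hk, w, hw, rfl⟩ := Subgroup.mem_sup_of_normal_left.mp (htop ▸ Subgroup.mem_top y)
    obtain ⟨i, rfl⟩ := Subgroup.mem_zpowers_iff.mp hw
    have hck : c k ∈ KC := (Subgroup.mem_normalizer_iff.mp (hKN hxN) (k : G)).mp hk
    have hca : c a' = a'⁻¹ := Subtype.ext hxa
    rw [map_mul, map_mul, map_mul, hμK _ hck, hμK _ hk, one_mul, one_mul, map_zpow, hca, map_zpow,
      map_zpow, map_inv, inv_zpow]
  -- the generalized character
  let mu : C → ℂ := fun y => (μ y : ℂ)
  have hmu : IsIrrCharacter C mu := isIrrCharacter_linear μ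
  let mui : C → ℂ := fun y => ((μ⁻¹ : C →* ℂˣ) y : ℂ)
  have hmui : IsIrrCharacter C mui := isIrrCharacter_linear μ⁻¹
  have hone : IsIrrCharacter C (fun _ => (1 : ℂ)) := isIrrCharacter_one
  let ϑ : C → ℂ := (fun _ => (1 : ℂ)) - mu
  have hϑg : IsGeneralizedCharacter C ϑ :=
    isGenChar_sub (isGenChar_of_char isCharacter_one) (isGenChar_of_char (isCharacter_of_irr hmu))
  have : Fintype C := Fintype.ofFinite C
  set Φ := indFun C ϑ with hΦdef
  have hΦg : IsGeneralizedCharacter G Φ := isGenChar_indFun C hϑg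
  have hsupp : ∀ y : C, ϑ y ≠ 0 → 2 ^ (n + 2) ∣ orderOf (y : G) := fun y hy => by
    by_contra hnd
    exact hy (by simp [ϑ, mu, hμvan y hnd])
  have hΦres : ∀ y : C, ϑ y ≠ 0 → Φ y = (2 : ℂ) - mu y - mui y := by
    intro y hy
    have hyd := hsupp y hy
    have hzero : ∀ g : G, g ∉ Subgroup.normalizer (D : Set G) →
        extendByZero C ϑ (g⁻¹ * (y : G) * g) = 0 := by
      intro g hg
      refine extendByZero_of_not_mem _ _ fun hgy => hg ?_
      have h := hTI g⁻¹ y y.2 (hDcard ▸ hyd) (by rw [inv_inv]; exact hgy)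
      exact inv_inv g ▸ (Subgroup.normalizer (D : Set G)).inv_mem h
    have hF : ∀ g : G, extendByZero C ϑ (g⁻¹ * (y : G) * g) =
        (if g ∈ C then ϑ y else 0) + (if x⁻¹ * g ∈ C then 1 - mui y else 0) := by
      intro g
      by_cases hgC : g ∈ C
      · have hxg : ¬ x⁻¹ * g ∈ C := fun h => hxC (by
          have := C.mul_mem hgC (C.inv_mem h)
          rwa [mul_inv_rev, inv_inv, mul_inv_cancel_left] at this)
        rw [if_pos hgC, if_neg hxg, add_zero,
          extendByZero_of_mem C ϑ (C.mul_mem (C.mul_mem (C.inv_mem hgC) y.2) hgC)]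
        rw [show (⟨g⁻¹ * (y : G) * g, C.mul_mem (C.mul_mem (C.inv_mem hgC) y.2) hgC⟩ : C) =
          (⟨g, hgC⟩ : C)⁻¹ * y * ⟨g, hgC⟩ from rfl]
        simp only [ϑ, mu, Pi.sub_apply, map_mul, map_inv]
        rw [mul_comm (μ ⟨g, hgC⟩)⁻¹ (μ y), inv_mul_cancel_right]
      · by_cases hxg : x⁻¹ * g ∈ C
        · rw [if_neg hgC, if_pos hxg, zero_add]
          set c : C := ⟨x⁻¹ * g, hxg⟩ with hc
          have hy' : x⁻¹ * (y : G) * x ∈ C := by
            refine Subgroup.mem_centralizer_iff.mpr ?_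
            intro d hd
            have hd' : x * d * x⁻¹ ∈ D := (Subgroup.mem_normalizer_iff.mp hxN d).mp hd
            have h := Subgroup.mem_centralizer_iff.mp y.2 _ hd'
            calc d * (x⁻¹ * (y : G) * x) = x⁻¹ * ((x * d * x⁻¹) * y) * x := by group
              _ = x⁻¹ * ((y : G) * (x * d * x⁻¹)) * x := by rw [h]
              _ = _ := by group
          have hmem : g⁻¹ * (y : G) * g = ((c⁻¹ * ⟨x⁻¹ * (y : G) * x, hy'⟩ * c : C) : G) := by
            simp [hc, mul_assoc]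
          rw [hmem, extendByZero_coe]
          have hinv : μ ⟨x⁻¹ * (y : G) * x, hy'⟩ = (μ y)⁻¹ := by
            have h := hμx ⟨x⁻¹ * (y : G) * x, hy'⟩
            rw [eq_comm, inv_eq_iff_eq_inv] at h
            rw [h]
            congr 2
            exact Subtype.ext (by simp [mul_assoc])
          simp only [ϑ, mu, mui, Pi.sub_apply, map_mul, map_inv, hinv, MonoidHom.inv_apply]
          rw [mul_comm (μ c)⁻¹ (μ y)⁻¹, inv_mul_cancel_right]
        · rw [if_neg hgC, if_neg hxg, add_zero]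
          exact hzero g fun hgN => (hcases g hgN).elim hgC hxg
    have hc1 : Nat.card {g : G // g ∈ C} = Nat.card C := rfl
    have hc2 : Nat.card {g : G // x⁻¹ * g ∈ C} = Nat.card C := Nat.card_congr
      { toFun := fun g => ⟨x⁻¹ * g.1, g.2⟩
        invFun := fun c => ⟨x * c.1, by simp⟩
        left_inv := fun g => Subtype.ext (by simp)
        right_inv := fun c => Subtype.ext (by simp) }
    rw [hΦdef]
    simp only [Cfsg.indFun, hF, Finset.sum_add_distrib]
    rw [← Finset.sum_filter, ← Finset.sum_filter, Finset.sum_const, Finset.sum_const,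
      ← Fintype.card_subtype, ← Fintype.card_subtype, ← Nat.card_eq_fintype_card,
      ← Nat.card_eq_fintype_card, hc1, hc2, nsmul_eq_mul, nsmul_eq_mul]
    have hC0 : (Nat.card C : ℂ) ≠ 0 := Nat.cast_ne_zero.mpr Nat.card_pos.ne'
    simp only [ϑ, Pi.sub_apply]
    field_simp
    ring
  have hne1 : mu ≠ fun _ => 1 := fun h => by
    have := congrFun h a'
    simp only [mu, hμa, I, Units.val_mk0] at this
    have := congrArg Complex.im this
    simp at this
  have hne2 : mui ≠ fun _ => 1 := fun h => by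
    have := congrFun h a'
    simp only [mui, MonoidHom.inv_apply, hμa, I, Units.val_inv_eq_inv_val, Units.val_mk0] at this
    have := congrArg Complex.im this
    simp at this
  have hne3 : mu ≠ mui := fun h => by
    have := congrFun h a'
    simp only [mu, mui, MonoidHom.inv_apply, hμa, I, Units.val_inv_eq_inv_val, Units.val_mk0] at this
    have := congrArg Complex.im this
    norm_num at this
  have hinner : classInner Φ Φ = 3 := by
    conv_lhs => rw [hΦdef]
    rw [frobenius_reciprocity C ϑ (isGenChar_iff_coeff_int.mp hΦg).1]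
    have heq : classInner ϑ (fun y : C => Φ y) =
        classInner ϑ ((2 : ℂ) • (fun _ => (1 : ℂ)) - mu - mui) := by
      simp only [classInner]
      congr 1
      refine Finset.sum_congr rfl fun y _ => ?_
      by_cases hy : ϑ y = 0
      · rw [hy, zero_mul, zero_mul]
      · rw [hΦres y hy]; simp
    rw [heq]
    simp only [ϑ, classInner_sub_left, classInner_sub_right, classInner_smul_right,
      classInner_irr_self hone, classInner_irr_self hmu, classInner_irr_ne hone hmu hne1.symm,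
      classInner_irr_ne hone hmui hne2.symm, classInner_irr_ne hmu hone hne1,
      classInner_irr_ne hmu hmui hne3]
    simp [map_ofNat]
    norm_num
  have hΦone : classInner Φ (fun _ => 1) = 1 := by
    rw [hΦdef, frobenius_reciprocity C ϑ isClassFunction_one]
    simp only [ϑ, classInner_sub_left, classInner_irr_self hone, classInner_irr_ne hmu hone hne1, sub_zero]
  have hΦ1 : Φ 1 = 0 := by
    rw [hΦdef, indFun_apply_one]
    simp [ϑ, mu]
  obtain ⟨χ₁, χ₂, h1, h2, h3, h4, h5, hval⟩ := exists_decomp_norm_three hΦg hinner hΦone hΦ1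
  refine ⟨χ₁, χ₂, h1, h2, h3, h4, h5, fun g hg => ?_⟩
  have hzero : Φ g = 0 := by
    rw [hΦdef]
    refine (congrArg _ (Finset.sum_eq_zero fun k _ => ?_)).trans (mul_zero _)
    by_cases hk : k⁻¹ * g * k ∈ C
    · rw [extendByZero_of_mem _ _ hk]
      by_contra hne
      have := hsupp ⟨_, hk⟩ hne
      rw [show orderOf ((⟨k⁻¹ * g * k, hk⟩ : C) : G) = orderOf g by
        show orderOf (k⁻¹ * g * k) = _
        rw [show k⁻¹ * g * k = (MulAut.conj k⁻¹).toMonoidHom g by simp,
          orderOf_injective _ (MulAut.conj k⁻¹).injective]] at this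
      exact hg ((show 4 ∣ 2 ^ (n + 2) from ⟨2 ^ n, by rw [pow_add]; ring⟩).trans this)
    · exact extendByZero_of_not_mem _ _ hk
  rw [hval g] at hzero
  linear_combination -hzero

end CfsgLib.QuaternionSylow
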