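/-
The Brauer–Suzuki theorem for generalized quaternion Sylow 2-subgroups of order at least 16.
-/
import Cfsg.Agent.Lib.BrauerSuzukiQ.Exceptional
import Cfsg.Agent.Lib.CharTheory.Linear
import Cfsg.Agent.Lib.CharTheory.Schur
import Cfsg.Agent.Lib.CharTheory.Degree
import Cfsg.Agent.Lib.CharTheory.Clifford
import Cfsg.Agent.Lib.CharTheory.Gallagher

namespace CfsgLib.QuaternionSylow

open Cfsg CfsgLib.CharTheory
open scoped ComplexConjugate

universe u

variable {G : Type u} [Group G]

/-- A generalized quaternion group has exactly one involution. -/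
theorem quaternion_involution {k : ℕ} [NeZero k] {q : QuaternionGroup k} (hq : orderOf q = 2) :
    q = QuaternionGroup.a (k : ZMod (2 * k)) := by
  rcases q with i | i
  · have h1 : (QuaternionGroup.a i : QuaternionGroup k) ^ 2 = 1 := hq ▸ pow_orderOf_eq_one _
    rw [pow_two, QuaternionGroup.a_mul_a, QuaternionGroup.one_def] at h1
    have h2 : i + i = 0 := QuaternionGroup.a.inj h1
    rw [← two_mul, ← ZMod.natCast_zmod_val i] at h2
    have h3 : ((2 * i.val : ℕ) : ZMod (2 * k)) = 0 := by push_cast; exact h2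
    rw [ZMod.natCast_eq_zero_iff] at h3
    obtain ⟨c, hc⟩ := h3
    have hlt : i.val < 2 * k := ZMod.val_lt i
    have hval : i.val = 0 ∨ i.val = k := by
      have hk := NeZero.pos k
      rcases Nat.lt_or_ge c 2 with hc2 | hc2
      · interval_cases c <;> omega
      · have : 2 * k * 2 ≤ 2 * k * c := Nat.mul_le_mul_left _ hc2
        omega
    rcases hval with h | h
    · exfalso
      have : i = 0 := by rw [← ZMod.natCast_zmod_val i, h, Nat.cast_zero]
      rw [this, QuaternionGroup.a_zero, orderOf_one] at hq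
      omega
    · rw [← ZMod.natCast_zmod_val i, h]
  · rw [QuaternionGroup.orderOf_xa] at hq
    omega

variable [Finite G] (S : Sylow 2 G) {n : ℕ} (e : (S : Subgroup G) ≃* QuaternionGroup (2 ^ (n + 2)))

include e

theorem sylow_involution_unique {u v : G} (hu : u ∈ (S : Subgroup G)) (hv : v ∈ (S : Subgroup G))
    (hu2 : orderOf u = 2) (hv2 : orderOf v = 2) : u = v := by
  have : NeZero (2 ^ (n + 2)) := ⟨pow_ne_zero _ two_ne_zero⟩
  have key : ∀ w (hw : w ∈ (S : Subgroup G)), orderOf w = 2 →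
      e ⟨w, hw⟩ = QuaternionGroup.a ((2 ^ (n + 2) : ℕ) : ZMod (2 * 2 ^ (n + 2))) := fun w hw h2 =>
    quaternion_involution ((orderOf_injective e.toMonoidHom e.injective ⟨w, hw⟩).trans
      ((Subgroup.orderOf_mk w hw).trans h2))
  exact congrArg Subtype.val (e.injective ((key u hu hu2).trans (key v hv hv2).symm))

theorem involution_conj {u v : G} (hu2 : orderOf u = 2) (hv2 : orderOf v = 2) : IsConj u v := by
  have := Fact.mk Nat.prime_two
  have key : ∀ w : G, orderOf w = 2 → ∃ g : G, g * w * g⁻¹ ∈ (S : Subgroup G) := by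
    intro w hw
    obtain ⟨R, hR⟩ := (IsPGroup.of_card (p := 2) (G := Subgroup.zpowers w) (n := 1)
      (by rw [Nat.card_zpowers, hw, pow_one])).exists_le_sylow
    obtain ⟨g, hg⟩ := MulAction.exists_smul_eq G R S
    refine ⟨g, ?_⟩
    rw [← hg, Sylow.coe_subgroup_smul]
    exact ⟨w, hR (Subgroup.mem_zpowers w), rfl⟩
  obtain ⟨g, hg⟩ := key u hu2
  obtain ⟨h, hh⟩ := key v hv2
  have ho : ∀ k w : G, orderOf (k * w * k⁻¹) = orderOf w := fun k w => by
    rw [show k * w * k⁻¹ = (MulAut.conj k).toMonoidHom w from rfl,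
      orderOf_injective _ (MulAut.conj k).injective]
  have heq := sylow_involution_unique S e hg hh (by rw [ho, hu2]) (by rw [ho, hv2])
  exact (isConj_iff.mpr ⟨g, heq⟩ : IsConj u (h * v * h⁻¹)).trans (isConj_iff.mpr ⟨h, rfl⟩ : IsConj v _).symm

theorem commuting_involutions {u v : G} (hu2 : orderOf u = 2) (hv2 : orderOf v = 2) (hc : Commute u v) :
    u = v := by
  have := Fact.mk Nat.prime_two
  have hu : IsPGroup 2 (Subgroup.zpowers u) :=
    IsPGroup.of_card (n := 1) (by rw [Nat.card_zpowers, hu2, pow_one])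
  have hv : IsPGroup 2 (Subgroup.zpowers v) :=
    IsPGroup.of_card (n := 1) (by rw [Nat.card_zpowers, hv2, pow_one])
  have hle : Subgroup.zpowers u ≤ Subgroup.normalizer (Subgroup.zpowers v : Set G) := by
    rw [Subgroup.zpowers_le, Subgroup.mem_normalizer_iff]
    intro w
    have key : ∀ z ∈ Subgroup.zpowers v, u * z * u⁻¹ = z := by
      intro z hz
      obtain ⟨j, rfl⟩ := Subgroup.mem_zpowers_iff.mp hz
      rw [(hc.zpow_right j).eq, mul_inv_cancel_right]
    constructor
    · intro hw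
      show u * w * u⁻¹ ∈ Subgroup.zpowers v
      rw [key w hw]; exact hw
    · intro hw
      have h1 : u * (u * w * u⁻¹) * u⁻¹ = u * w * u⁻¹ := key _ hw
      exact (mul_left_cancel (mul_right_cancel h1)) ▸ hw
  obtain ⟨R, hR⟩ := (hu.to_sup_of_normal_right' hv hle).exists_le_sylow
  obtain ⟨g, hg⟩ := MulAction.exists_smul_eq G R S
  have hmem : ∀ w ∈ Subgroup.zpowers u ⊔ Subgroup.zpowers v, g * w * g⁻¹ ∈ (S : Subgroup G) := fun w hw => by
    rw [← hg, Sylow.coe_subgroup_smul]
    exact ⟨w, hR hw, rfl⟩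
  have ho : ∀ w : G, orderOf (g * w * g⁻¹) = orderOf w := fun w => by
    rw [show g * w * g⁻¹ = (MulAut.conj g).toMonoidHom w from rfl,
      orderOf_injective _ (MulAut.conj g).injective]
  exact mul_left_cancel (mul_right_cancel (sylow_involution_unique S e
    (hmem u ((le_sup_left : Subgroup.zpowers u ≤ _) (Subgroup.mem_zpowers u)))
    (hmem v ((le_sup_right : Subgroup.zpowers v ≤ _) (Subgroup.mem_zpowers v)))
    (by rw [ho, hu2]) (by rw [ho, hv2])))

theorem odd_order_mul_involutions {u v : G} (hu2 : orderOf u = 2) (hv2 : orderOf v = 2) :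
    Odd (orderOf (u * v)) := by
  rcases Nat.even_or_odd (orderOf (u * v)) with ⟨j, hj⟩ | ho
  swap
  · exact ho
  exfalso
  have huu : u * u = 1 := by rw [← pow_two, ← hu2, pow_orderOf_eq_one]
  have hvv : v * v = 1 := by rw [← pow_two, ← hv2, pow_orderOf_eq_one]
  have hu' : u⁻¹ = u := inv_eq_of_mul_eq_one_right huu
  have hv' : v⁻¹ = v := inv_eq_of_mul_eq_one_right hvv
  have hpos := orderOf_pos (u * v)
  set w := (u * v) ^ j with hw
  have hw2 : orderOf w = 2 := by
    rw [hw, orderOf_pow_of_dvd (by omega) ⟨2, by rw [hj]; ring⟩, hj, show j + j = 2 * j by ring,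
      Nat.mul_div_cancel _ (by omega)]
  have hwi : w⁻¹ = w := inv_eq_of_mul_eq_one_right (by rw [← pow_two, ← hw2, pow_orderOf_eq_one])
  have hc : Commute w u := by
    show w * u = u * w
    have h1 : u * w * u⁻¹ = w⁻¹ := by
      rw [hw, ← conj_pow, ← inv_pow, mul_inv_rev, hu', hv']
      congr 1
      rw [← mul_assoc, huu, one_mul]
    rw [hwi] at h1
    exact (mul_inv_eq_iff_eq_mul.mp h1).symm
  have hwu := commuting_involutions S e hw2 hu2 hc
  have hcomm : Commute u v := by
    have h3 : w * (u * v) = u * v * w := ((Commute.refl (u * v)).pow_left j).eq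
    rw [hwu] at h3
    exact mul_left_cancel (h3.trans (mul_assoc u v u))
  have huv := commuting_involutions S e hu2 hv2 hcomm
  rw [huv, hvv, orderOf_one] at hj
  omega

theorem exists_involution : ∃ t : G, t ∈ (S : Subgroup G) ∧ orderOf t = 2 := by
  have := Fact.mk Nat.prime_two
  have hc : 2 ∣ Nat.card (S : Subgroup G) := by
    have : NeZero (2 ^ (n + 2)) := ⟨pow_ne_zero _ two_ne_zero⟩
    rw [Nat.card_congr e.toEquiv, Nat.card_eq_fintype_card, QuaternionGroup.card]
    exact ⟨2 * 2 ^ (n + 2), by ring⟩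
  obtain ⟨⟨t, ht⟩, hto⟩ := exists_prime_orderOf_dvd_card' (G := (S : Subgroup G)) 2 hc
  exact ⟨t, ht, by rwa [Subgroup.orderOf_mk] at hto⟩

/-- The kernel of the first exceptional character contains all involutions. -/
theorem exists_char_kernel [Fintype G] :
    ∃ (χ : G → ℂ) (hχ : IsIrrCharacter G χ) (η : G → ℂ), IsCharacter G η ∧
      (∀ g : G, ¬ 4 ∣ orderOf g → χ g = η g + 1) ∧ χ 1 ≠ 1 ∧
      ∀ t : G, orderOf t = 2 → t ∈ charKernel χ (isCharacter_of_irr hχ) := by
  classical
  obtain ⟨χ₁, χ₂, h1, h2, h3, h4, h5, hdiff⟩ := exists_exceptional S n e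
  refine ⟨χ₁, h1, χ₂, isCharacter_of_irr h2, fun g hg => by linear_combination hdiff g hg, ?_, ?_⟩
  · intro h
    rw [h] at h5
    have : χ₂ 1 = 0 := by linear_combination -h5
    exact irr_ne_zero h2 this
  intro t ht
  rw [mem_charKernel]
  have hsum1 : ∑ a : G, ((fun _ : G => (1 : ℂ)) (a * t * a⁻¹ * t) + χ₂ (a * t * a⁻¹ * t) -
      χ₁ (a * t * a⁻¹ * t)) = 0 := by
    refine Finset.sum_eq_zero fun a _ => ?_
    have ho : orderOf (a * t * a⁻¹) = 2 := by
      rw [show a * t * a⁻¹ = (MulAut.conj a).toMonoidHom t from rfl,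
        orderOf_injective _ (MulAut.conj a).injective, ht]
    have hodd := odd_order_mul_involutions S e ho ht
    have := hdiff (a * t * a⁻¹ * t) (fun h => by
      rw [Nat.odd_iff] at hodd
      omega)
    simp only
    linear_combination -this
  rw [Finset.sum_sub_distrib, Finset.sum_add_distrib, sum_conj_mul_char isIrrCharacter_one t t,
    sum_conj_mul_char h2 t t, sum_conj_mul_char h1 t t] at hsum1
  have hd : χ₁ t = χ₂ t + 1 := by
    have := hdiff t (by rw [ht]; decide)
    linear_combination this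
  have hG : (Nat.card G : ℂ) ≠ 0 := Nat.cast_ne_zero.mpr Nat.card_pos.ne'
  have hd2 : χ₂ 1 ≠ 0 := irr_ne_zero h2
  have hd1 : χ₂ 1 + 1 ≠ 0 := h5 ▸ irr_ne_zero h1
  rw [hd, h5] at hsum1
  field_simp at hsum1
  have h7 := (mul_eq_zero.mp (hsum1.trans (mul_zero _))).resolve_left hG
  have hsq : (χ₂ 1 - χ₂ t) ^ 2 = 0 := by linear_combination h7
  have : χ₂ t = χ₂ 1 := (sub_eq_zero.mp (eq_zero_of_pow_eq_zero hsq)).symm
  rw [hd, h5, this]

/-- Brauer–Suzuki. -/
theorem exists_even_normal :
    ∃ M : Subgroup G, M.Normal ∧ Even (Nat.card M) ∧ ¬ commutator G ≤ M := by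
  classical
  have := Fintype.ofFinite G
  obtain ⟨χ, hχ, η, -, -, hne, hker⟩ := exists_char_kernel S e
  refine ⟨charKernel χ (isCharacter_of_irr hχ), inferInstance, ?_, fun hle => hne ?_⟩
  · obtain ⟨t, -, ht⟩ := exists_involution S e
    rw [even_iff_two_dvd, ← ht]
    have := orderOf_dvd_natCard (⟨t, hker t ht⟩ : charKernel χ (isCharacter_of_irr hχ))
    rwa [Subgroup.orderOf_mk] at this
  · obtain ⟨m, ρ, hρ, hρc⟩ := hχ
    have hall : ∀ g ∈ (⊤ : Subgroup G), ∃ ω : ℂ, ρ g = ω • LinearMap.id := by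
      intro g _
      refine ⟨_, eq_smul_id_of_commute ρ (ρ g) fun k => ?_⟩
      have h1 : g * k * g⁻¹ * k⁻¹ ∈ charKernel χ (isCharacter_of_irr ⟨m, ρ, hρ, hρc⟩) :=
        hle (Subgroup.commutator_mem_commutator (Subgroup.mem_top g) (Subgroup.mem_top k))
      rw [mem_charKernel, ← hρc] at h1
      have h2 := rep_apply_eq_one_of_char_eq ρ h1
      have e : g * k = g * k * g⁻¹ * k⁻¹ * (k * g) := by group
      rw [← map_mul, ← map_mul, e, map_mul, h2, one_mul]
    have hdeg := degree_dvd_index_of_scalar ρ ⊤ hall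
    rw [Subgroup.index_top, Nat.dvd_one] at hdeg
    rw [← hρc, ρ.char_one, hdeg, Nat.cast_one]

/-- The subgroup generated by the involutions has cyclic Sylow 2-subgroups. -/
theorem closure_involutions_cyclic (Q : Sylow 2 ↥(Subgroup.closure {g : G | orderOf g = 2})) :
    IsCyclic Q := by
  classical
  have := Fintype.ofFinite G
  have := Fact.mk Nat.prime_two
  revert Q
  set L := Subgroup.closure {g : G | orderOf g = 2} with hL
  intro Q
  have hLn : L.Normal := by
    refine ⟨fun y hy g => ?_⟩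
    have hmap : L.map (MulAut.conj g).toMonoidHom ≤ L := by
      rw [hL, MonoidHom.map_closure]
      refine Subgroup.closure_mono ?_
      rintro _ ⟨w, hw, rfl⟩
      exact (orderOf_injective _ (MulAut.conj g).injective w).trans hw
    exact hmap ⟨y, hy, rfl⟩
  obtain ⟨a, x, K, ha, hx, hao, hxa, hDz, hDcard, hSN, hSC, -, -, -, -, -, -, hcases⟩ :=
    local_structure S n e _ rfl
  obtain ⟨χ, hχ, η, hη, hdiff, hne, hker⟩ := exists_char_kernel S e
  have hLker : L ≤ charKernel χ (isCharacter_of_irr hχ) := (Subgroup.closure_le _).mpr hker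
  by_cases hsub : (S : Subgroup G) ⊓ L ≤ Subgroup.zpowers a
  · -- the Sylow subgroup `S ⊓ L` is cyclic
    obtain ⟨g, hg⟩ : ∃ g : G, (Q : Subgroup L).map L.subtype ≤
        (S : Subgroup G).map (MulAut.conj g).toMonoidHom := by
      obtain ⟨R, hR⟩ := (Q.2.map L.subtype).exists_le_sylow
      obtain ⟨g, hg⟩ := MulAction.exists_smul_eq G S R
      refine ⟨g, ?_⟩
      rw [← hg, Sylow.coe_subgroup_smul] at hR
      exact hR
    have hle : (Q : Subgroup L).map L.subtype ≤ ((S : Subgroup G) ⊓ L).map (MulAut.conj g).toMonoidHom := by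
      rintro y hy
      obtain ⟨s, hs, rfl⟩ := hg hy
      refine ⟨s, ⟨hs, ?_⟩, rfl⟩
      have := hLn.conj_mem _ (Subgroup.map_subtype_le _ hy) g⁻¹
      simpa [mul_assoc] using this
    have hcyc : IsCyclic ↥(((S : Subgroup G) ⊓ L).map (MulAut.conj g).toMonoidHom) := by
      have := Subgroup.isCyclic_of_le hsub
      exact isCyclic_of_surjective _ (MulEquiv.surjective
        (Subgroup.equivMapOfInjective _ (MulAut.conj g).toMonoidHom (MulAut.conj g).injective))
    have := Subgroup.isCyclic_of_le hle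
    show IsCyclic (Q : Subgroup L)
    exact isCyclic_of_surjective _ (MulEquiv.surjective
      (Subgroup.equivMapOfInjective (Q : Subgroup L) L.subtype L.subtype_injective).symm)
  exfalso
  -- otherwise the quotient by `L` has a normal 2-complement
  obtain ⟨s, ⟨hs, hsL⟩, hsa⟩ := SetLike.not_le_iff_exists.mp hsub
  have hout : ∀ y ∈ (S : Subgroup G), y ∈ Subgroup.zpowers a ∨ ∃ j : ℤ, y = x * a ^ j := by
    intro y hy
    rcases hcases y (hSN hy) with h | h
    · exact Or.inl (hSC ▸ ⟨hy, h⟩)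
    · have hxy : x⁻¹ * y ∈ Subgroup.zpowers a :=
        hSC ▸ ⟨(S : Subgroup G).mul_mem ((S : Subgroup G).inv_mem hx) hy, h⟩
      obtain ⟨j, hj⟩ := Subgroup.mem_zpowers_iff.mp hxy
      exact Or.inr ⟨j, by rw [hj, mul_inv_cancel_left]⟩
  obtain ⟨i, hi⟩ := (hout s hs).resolve_left hsa
  -- so `a ^ 2` lies in `L`
  have ha2 : a ^ 2 ∈ L := by
    have h1 : s * a * s⁻¹ = a⁻¹ := by
      rw [hi, show x * a ^ i * a * (x * a ^ i)⁻¹ = x * (a ^ i * a * (a ^ i)⁻¹) * x⁻¹ by group,
        ((Commute.refl a).zpow_left i).eq, mul_inv_cancel_right, hxa]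
    have h2 : a * (s * a⁻¹ * s⁻¹) ∈ L := by
      have := L.mul_mem (hLn.conj_mem s hsL a) (L.inv_mem hsL)
      simpa [mul_assoc] using this
    have h3 : s * a⁻¹ * s⁻¹ = a := by rw [← conj_inv, h1, inv_inv]
    rw [h3, ← pow_two] at h2
    exact h2
  let π := QuotientGroup.mk' L
  let P := S.mapSurjective (QuotientGroup.mk'_surjective L : Function.Surjective π)
  have hPgen : (P : Subgroup (G ⧸ L)) ≤ Subgroup.zpowers (π a) := by
    show (S : Subgroup G).map π ≤ _
    have key : ∀ y ∈ Subgroup.zpowers a, π y ∈ Subgroup.zpowers (π a) := fun y hy => by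
      obtain ⟨j, rfl⟩ := Subgroup.mem_zpowers_iff.mp hy
      rw [map_zpow]; exact Subgroup.zpow_mem_zpowers _ _
    rintro _ ⟨y, hy, rfl⟩
    rcases hout y hy with h | ⟨j, hj⟩
    · exact key y h
    · have h2 : s⁻¹ * y ∈ Subgroup.zpowers a := by
        rw [hi, hj, show (x * a ^ i)⁻¹ * (x * a ^ j) = a ^ (-i) * a ^ j by group]
        exact Subgroup.mul_mem _ (Subgroup.zpow_mem_zpowers a _) (Subgroup.zpow_mem_zpowers a _)
      have h3 := key _ h2
      rw [map_mul, map_inv, show π s = 1 from (QuotientGroup.eq_one_iff s).mpr hsL, inv_one, one_mul] at h3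
      exact h3
  have hpi2 : π a ^ 2 = 1 := by rw [← map_pow]; exact (QuotientGroup.eq_one_iff _).mpr ha2
  have hPcard : Nat.card P ≤ 2 := by
    refine le_trans (Subgroup.card_le_of_le hPgen) ?_
    rw [Nat.card_zpowers]
    exact orderOf_le_of_pow_eq_one two_pos hpi2
  have hPcyc : IsCyclic P := by
    show IsCyclic (P : Subgroup (G ⧸ L))
    exact Subgroup.isCyclic_of_le hPgen
  obtain ⟨Kb, hKn, hKodd, hKidx⟩ : ∃ Kb : Subgroup (G ⧸ L), Kb.Normal ∧ Odd (Nat.card Kb) ∧ Kb.index ≤ 2 := by
    by_cases h2 : 2 ∣ Nat.card (G ⧸ L)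
    · have hmin : (Nat.card (G ⧸ L)).minFac = 2 := (Nat.minFac_eq_two_iff _).mpr h2
      have hcompl := IsCyclic.isComplement' hmin hPcyc
      refine ⟨(MonoidHom.transferSylow P (IsCyclic.normalizer_le_centralizer hmin hPcyc)).ker,
        inferInstance, ?_, ?_⟩
      · have h := MonoidHom.not_dvd_card_ker_transferSylow P (IsCyclic.normalizer_le_centralizer hmin hPcyc)
        rw [Nat.odd_iff]
        omega
      · rw [hcompl.symm.index_eq_card]
        exact hPcard
    · exact ⟨⊤, inferInstance, by rw [Subgroup.card_top, Nat.odd_iff]; omega, by rw [Subgroup.index_top]; omega⟩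
  let H := Kb.comap π
  have : Fintype H := Fintype.ofFinite H
  have hHn : H.Normal := hKn.comap π
  -- `η` is trivial on `L` on the elements we need
  have hLη : ∀ l ∈ L, η l = η 1 := by
    intro l hl
    have : ∀ t : G, orderOf t = 2 → t ∈ charKernel η hη := by
      intro t ht
      rw [mem_charKernel]
      have h1 := hdiff t (by rw [ht]; decide)
      have h2 := hdiff 1 (by rw [orderOf_one]; decide)
      rw [(mem_charKernel _ t).mp (hker t ht), h2] at h1
      linear_combination -h1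
    exact (mem_charKernel hη l).mp ((Subgroup.closure_le _).mpr this hl)
  have hHval : ∀ h ∈ H, χ h = η h + 1 := by
    intro h hh
    obtain ⟨j, m, hm, hho⟩ := Nat.exists_eq_pow_mul_and_not_dvd (orderOf_pos h).ne' 2 (by norm_num)
    have hmodd : Odd m := Nat.odd_iff.mpr (by omega)
    have hco : Nat.Coprime (2 ^ j) m := (Nat.coprime_two_left.mpr hmodd).pow_left j
    have hb : (1 : ℤ) = ((2 ^ j : ℕ) : ℤ) * Nat.gcdA (2 ^ j) m + (m : ℤ) * Nat.gcdB (2 ^ j) m := by
      rw [← Nat.gcd_eq_gcd_ab, hco.gcd_eq_one, Nat.cast_one]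
    set u := h ^ (((2 ^ j : ℕ) : ℤ) * Nat.gcdA (2 ^ j) m) with hu
    set w := h ^ ((m : ℤ) * Nat.gcdB (2 ^ j) m) with hw
    have huw : h = w * u := by rw [hu, hw, ← zpow_add, add_comm, ← hb, zpow_one]
    have hw1 : w ∈ L := by
      rw [← QuotientGroup.eq_one_iff]
      show π w = 1
      have h1 : orderOf (π w) ∣ Nat.card Kb := by
        have := orderOf_dvd_natCard (⟨π w, Kb.zpow_mem hh _ |> fun hz => by
          rw [hw, map_zpow]; exact hz⟩ : Kb)
        rwa [Subgroup.orderOf_mk] at this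
      have h2 : orderOf (π w) ∣ 2 ^ j := by
        refine (orderOf_map_dvd π w).trans (orderOf_dvd_of_pow_eq_one ?_)
        rw [hw, ← zpow_natCast, ← zpow_mul, mul_comm, ← mul_assoc, zpow_mul, ← Nat.cast_mul, ← hho,
          zpow_natCast, pow_orderOf_eq_one, one_zpow]
      exact orderOf_eq_one_iff.mp (Nat.eq_one_of_dvd_coprimes
        ((Nat.coprime_two_left.mpr hKodd).pow_left j) h2 h1)
    have hu4 : ¬ 4 ∣ orderOf u := by
      have h1 : orderOf u ∣ m := by
        refine orderOf_dvd_of_pow_eq_one ?_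
        rw [hu, ← zpow_natCast, ← zpow_mul, mul_comm, ← mul_assoc, zpow_mul, ← Nat.cast_mul, mul_comm m,
          ← hho, zpow_natCast, pow_orderOf_eq_one, one_zpow]
      intro h4
      exact hm ((dvd_trans (by norm_num) h4).trans h1)
    rw [huw]
    rw [show χ (w * u) = χ u from
      apply_mul_of_kernel L (isCharacter_of_irr hχ) (fun l hl => (mem_charKernel _ l).mp (hLker hl)) ⟨w, hw1⟩ u,
      show η (w * u) = η u from apply_mul_of_kernel L hη hLη ⟨w, hw1⟩ u]
    exact hdiff u hu4
  have hηH := isCharacter_restrict hη H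
  obtain ⟨k, hk⟩ := classInner_char_nat hηH isCharacter_one
  have hcon : classInner (fun y : H => χ y) (fun _ => 1) ≠ 0 := by
    rw [show (fun y : H => χ y) = (fun y : H => η y) + fun _ => (1 : ℂ) from
      funext fun y => hHval y y.2, classInner_add_left, hk, classInner_irr_self isIrrCharacter_one]
    exact_mod_cast (show k + 1 ≠ 0 by omega)
  have hres := clifford_invariant H hχ isIrrCharacter_one hcon (fun g => rfl)
  have hHker : ∀ y ∈ H, χ y = χ 1 := fun y hy => by
    have h1 := congrFun hres ⟨y, hy⟩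
    have h2 := congrFun hres 1
    simp only [Pi.smul_apply, smul_eq_mul, OneMemClass.coe_one] at h1 h2
    rw [h1, h2]
  obtain ⟨m, ρ, hρ, hρc⟩ := hχ
  have hscal : ∀ y ∈ H, ρ y = 1 := fun y hy =>
    rep_apply_eq_one_of_char_eq ρ (by rw [hρc]; exact hHker y hy)
  have hHidx : H.index ≤ 2 := by
    rw [Subgroup.index_comap_of_surjective _ (QuotientGroup.mk'_surjective L)]
    exact hKidx
  have hall : ∀ g ∈ (⊤ : Subgroup G), ∃ ω : ℂ, ρ g = ω • LinearMap.id := by
    intro g _
    by_cases hg : g ∈ H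
    · exact ⟨1, by rw [hscal g hg, one_smul]; rfl⟩
    refine ⟨_, eq_smul_id_of_commute ρ (ρ g) fun y => ?_⟩
    by_cases hy : y ∈ H
    · rw [hscal y hy, mul_one, one_mul]
    · have hidx : H.index = 2 := by
        have h0 : H.index ≠ 0 := Subgroup.index_ne_zero_of_finite
        have h1 : H.index ≠ 1 := fun h1 => hg (Subgroup.index_eq_one.mp h1 ▸ Subgroup.mem_top g)
        omega
      have hgy : g⁻¹ * y ∈ H :=
        (Subgroup.mul_mem_iff_of_index_two hidx).mpr (by simp [hg, hy])
      rw [show y = g * (g⁻¹ * y) by group, map_mul, hscal _ hgy, mul_one]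
  have hdeg := degree_dvd_index_of_scalar ρ ⊤ hall
  rw [Subgroup.index_top, Nat.dvd_one] at hdeg
  exact hne (by rw [← hρc, ρ.char_one, hdeg, Nat.cast_one])

/-- With trivial odd core the centre has order two. -/
theorem card_center_eq_two (hO : ∀ N : Subgroup G, N.Normal → Odd (Nat.card N) → N = ⊥) :
    Nat.card (Subgroup.center G) = 2 := by
  classical
  have := Fact.mk Nat.prime_two
  set L := Subgroup.closure {g : G | orderOf g = 2} with hL
  obtain ⟨t, htS, ht⟩ := exists_involution S e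
  have htL : t ∈ L := Subgroup.subset_closure ht
  have hLn : L.Normal := by
    refine ⟨fun y hy g => ?_⟩
    have hmap : L.map (MulAut.conj g).toMonoidHom ≤ L := by
      rw [hL, MonoidHom.map_closure]
      refine Subgroup.closure_mono ?_
      rintro _ ⟨w, hw, rfl⟩
      exact (orderOf_injective _ (MulAut.conj g).injective w).trans hw
    exact hmap ⟨y, hy, rfl⟩
  obtain ⟨Q⟩ : Nonempty (Sylow 2 L) := inferInstance
  have hQ := closure_involutions_cyclic S e Q
  have hmin : (Nat.card L).minFac = 2 := (Nat.minFac_eq_two_iff _).mpr (by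
    rw [← ht]
    exact (Subgroup.orderOf_mk t htL) ▸ orderOf_dvd_natCard (⟨t, htL⟩ : L))
  have hcompl := IsCyclic.isComplement' hmin hQ
  set KL := (MonoidHom.transferSylow Q (IsCyclic.normalizer_le_centralizer hmin hQ)).ker with hKL
  have hKodd : Odd (Nat.card KL) := by
    have h : ¬ 2 ∣ Nat.card KL :=
      MonoidHom.not_dvd_card_ker_transferSylow Q (IsCyclic.normalizer_le_centralizer hmin hQ)
    rw [Nat.odd_iff]
    omega
  have hmemK : ∀ y : L, y ∈ KL ↔ Odd (orderOf y) := by
    intro y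
    constructor
    · intro hy
      exact hKodd.of_dvd_nat ((Subgroup.orderOf_mk y hy) ▸ orderOf_dvd_natCard (⟨y, hy⟩ : KL))
    · intro hy
      rw [hKL, MonoidHom.mem_ker, ← orderOf_eq_one_iff]
      obtain ⟨j, hj⟩ := (IsPGroup.iff_orderOf).mp Q.2
        (MonoidHom.transferSylow Q (IsCyclic.normalizer_le_centralizer hmin hQ) y)
      have hd := orderOf_map_dvd (MonoidHom.transferSylow Q (IsCyclic.normalizer_le_centralizer hmin hQ)) y
      rw [hj] at hd
      rw [hj]
      exact Nat.eq_one_of_dvd_coprimes ((Nat.coprime_two_left.mpr hy).pow_left j) dvd_rfl hd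
  have hKn : (KL.map L.subtype).Normal := by
    refine ⟨?_⟩
    rintro _ ⟨y, hy, rfl⟩ g
    refine ⟨⟨g * (y : G) * g⁻¹, hLn.conj_mem _ y.2 g⟩, (hmemK _).mpr ?_, rfl⟩
    rw [Subgroup.orderOf_mk, show g * (y : G) * g⁻¹ = (MulAut.conj g).toMonoidHom (y : G) from rfl,
      orderOf_injective _ (MulAut.conj g).injective, Subgroup.orderOf_coe]
    exact (hmemK y).mp hy
  have hKbot : KL = ⊥ := (Subgroup.map_eq_bot_iff_of_injective _ L.subtype_injective).mp
    (hO _ hKn (by rwa [Subgroup.card_map_of_injective L.subtype_injective]))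
  have hcyc : IsCyclic L := by
    have htop : (Q : Subgroup L) = ⊤ := by
      have h : KL ⊔ (Q : Subgroup L) = ⊤ := hcompl.sup_eq_top
      rwa [hKbot, bot_sup_eq] at h
    have hc2 : IsCyclic (⊤ : Subgroup L) := htop ▸ hQ
    exact isCyclic_of_surjective _ Subgroup.topEquiv.surjective
  have huniq : ∀ u : G, orderOf u = 2 → u = t := fun u hu => by
    refine commuting_involutions S e hu ht ?_
    have h := (IsCyclic.commGroup (α := L)).mul_comm ⟨u, Subgroup.subset_closure hu⟩ ⟨t, htL⟩
    exact congrArg Subtype.val h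
  have htc : t ∈ Subgroup.center G := Subgroup.mem_center_iff.mpr fun g => by
    have h := huniq (g * t * g⁻¹) (by
      rw [show g * t * g⁻¹ = (MulAut.conj g).toMonoidHom t from rfl,
        orderOf_injective _ (MulAut.conj g).injective, ht])
    exact (mul_inv_eq_iff_eq_mul.mp h)
  have hZp : IsPGroup 2 (Subgroup.center G) := by
    refine IsPGroup.iff_orderOf.mpr fun z => ?_
    obtain ⟨j, m, hm, hzo⟩ := Nat.exists_eq_pow_mul_and_not_dvd (orderOf_pos z).ne' 2 (by norm_num)
    refine ⟨j, ?_⟩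
    set w : G := ((z : G)) ^ 2 ^ j with hw
    have hwc : w ∈ Subgroup.center G := (Subgroup.center G).pow_mem z.2 _
    have hn : (Subgroup.zpowers w).Normal := ⟨fun y hy g => by
      rw [Subgroup.mem_center_iff.mp ((Subgroup.zpowers_le.mpr hwc) hy) g, mul_inv_cancel_right]
      exact hy⟩
    have hwo : orderOf w = m := by
      rw [hw, orderOf_pow_of_dvd (pow_ne_zero _ two_ne_zero) (by rw [Subgroup.orderOf_coe, hzo]; exact dvd_mul_right _ _),
        Subgroup.orderOf_coe, hzo, Nat.mul_div_cancel_left _ (pow_pos two_pos _)]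
    have hbot := hO _ hn (by rw [Nat.card_zpowers, hwo, Nat.odd_iff]; omega)
    have hm1 : m = 1 := by
      rw [← hwo, ← Nat.card_zpowers, hbot, Subgroup.card_bot]
    rw [hzo, hm1, mul_one]
  have hle : (Subgroup.center G) ≤ (S : Subgroup G) := by
    obtain ⟨R, hR⟩ := hZp.exists_le_sylow
    obtain ⟨g, hg⟩ := MulAction.exists_smul_eq G R S
    intro z hz
    rw [← hg, Sylow.coe_subgroup_smul]
    exact ⟨z, hR hz, by
      show g * z * g⁻¹ = z
      rw [Subgroup.mem_center_iff.mp hz g, mul_inv_cancel_right]⟩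
  obtain ⟨a, x, K, ha, hx, hao, hxa, hDz, hDcard, hSN, hSC, -⟩ := local_structure S n e _ rfl
  have hsub : ∀ z ∈ Subgroup.center G, z = 1 ∨ z = t := by
    intro z hz
    have hzS := hle hz
    have hza : z ∈ Subgroup.zpowers a := by
      rw [← hSC]
      exact ⟨hzS, Subgroup.mem_centralizer_iff.mpr fun d _ => Subgroup.mem_center_iff.mp hz d⟩
    obtain ⟨i, rfl⟩ := Subgroup.mem_zpowers_iff.mp hza
    have h1 : x * a ^ i * x⁻¹ = a ^ i := by rw [Subgroup.mem_center_iff.mp hz x, mul_inv_cancel_right]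
    rw [← conj_zpow, hxa, inv_zpow] at h1
    have h2 : (a ^ i) ^ 2 = 1 := by rw [pow_two]; nth_rw 1 [← h1]; exact inv_mul_cancel _
    rcases (Nat.dvd_prime Nat.prime_two).mp (orderOf_dvd_of_pow_eq_one h2) with h | h
    · exact Or.inl (orderOf_eq_one_iff.mp h)
    · exact Or.inr (huniq _ h)
  rw [← ht, ← Nat.card_zpowers]
  refine congrArg (fun U : Subgroup G => Nat.card U) (le_antisymm (fun z hz => ?_) (Subgroup.zpowers_le.mpr htc))
  rcases hsub z hz with rfl | rfl
  · exact one_mem _
  · exact Subgroup.mem_zpowers _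

end CfsgLib.QuaternionSylow
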